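import Cfsg.Agent.H614.AMod.EightF_m3
import Cfsg.Agent.H882.Del.M11Grp
import Cfsg.Agent.H933.O10.Base_m3
import Cfsg.Agent.FastGrp
import Cfsg.Agent.Prune
set_option linter.all false
prune_inst 0x7f00000000000000000000000000000000000000000000000000000000000000000000000000000000000000000000000000000000000000000000000000000000000000000000000000000000000000003fffffffffffffffffffffffffffbeffbdffffffff
open scoped Cfsg.Agent.FastGrp

-- part: H882/Del/Tr
section
/-!
# The trace on a deleted permutation module (helper882)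
-/

set_option autoImplicit false
set_option linter.unusedSectionVars false

namespace Cfsg.Agent.H882.Del

variable {F : Type*} [Field F] {V : Type*} [AddCommGroup V] [Module F V]
variable {ι : Type*} [Fintype ι] [DecidableEq ι] {v : ι → V}

theorem Sys.trace (S : Sys F v) {f : V →ₗ[F] V} {π : Equiv.Perm ι} (h : ∀ i, f (v i) = v (π i)) :
    LinearMap.trace F V f = ((Finset.univ.filter fun i => π i = i).card : F) - 1 := by
  classical
  have hfin : Module.Finite F V := Module.finite_of_finrank_pos S.pos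
  obtain ⟨i0, -⟩ := S.exists_two
  have hex : ∀ i, ∃ ψ : V →ₗ[F] F, ∀ j, ψ (v j) = (if j = i then 1 else 0) - (if j = i0 then 1 else 0) := by
    intro i
    apply S.exists_map
    rw [Finset.sum_sub_distrib, Finset.sum_ite_eq', Finset.sum_ite_eq']
    simp
  choose ψ hψ using hex
  have h1 : f = ∑ i, (ψ i).smulRight (v (π i)) := by
    apply S.ext
    intro j
    rw [LinearMap.sum_apply]
    simp only [LinearMap.smulRight_apply, hψ, sub_smul, Finset.sum_sub_distrib]
    have e1 : ∑ i, (if j = i then (1 : F) else 0) • v (π i) = v (π j) := by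
      rw [Finset.sum_eq_single j]
      · simp
      · intro i _ hi
        rw [if_neg (Ne.symm hi), zero_smul]
      · simp
    have e2 : ∑ i, (if j = i0 then (1 : F) else 0) • v (π i) = 0 := by
      rw [← Finset.smul_sum]
      have : ∑ i, v (π i) = 0 := by
        rw [← Finset.sum_congr rfl fun i _ => h i, ← map_sum, S.sum, map_zero]
      rw [this, smul_zero]
    rw [e1, e2, sub_zero, h]
  conv_lhs => rw [h1]
  rw [map_sum]
  simp only [LinearMap.trace_smulRight, hψ, Finset.sum_sub_distrib]
  rw [Finset.sum_boole]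
  congr 1
  have h2 : ∑ i, (if π i = i0 then (1 : F) else 0) = 1 := by
    rw [Equiv.sum_comp π (fun i => if i = i0 then (1 : F) else 0), Finset.sum_ite_eq']
    simp
  exact h2

end Cfsg.Agent.H882.Del
end

-- part: H882/Del/M11V
section
/-!
# Representations of `M₁₁` of dimension `11`, characteristic `≠ 2, 3` (helper882)

`L₂(11)` fixes a vector `v0 ≠ 0`; if `M₁₁` does not fix `v0` then the representation is the deleted permutation module on the
12 points.
-/

set_option autoImplicit false
set_option linter.unusedSectionVars false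

namespace Cfsg.Agent.H882.M11V

open Cfsg Module Cfsg.Agent.SporadicA.GolayBase Cfsg.Agent.SporadicA.GolayPerm Cfsg.Agent.H882.Tab
open Cfsg.Agent.H882.Grp Cfsg.Agent.H882.Dim Cfsg.Agent.H882.Del Cfsg.Agent.H637.JW

variable {K : Type*} [Field K] {V : Type*} [AddCommGroup V] [Module K V] [FiniteDimensional K V]

/-- Restriction to an invariant subspace. -/
def res {G : Type*} [Group G] (σ : G →* Module.End K V) (W : Submodule K V) (hW : ∀ g, ∀ w ∈ W, σ g w ∈ W) :
    G →* Module.End K W where
  toFun g := (σ g).restrict (hW g)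
  map_one' := by
    ext w
    change σ 1 (w : V) = w
    rw [map_one]; rfl
  map_mul' g h := by
    ext w
    change σ (g * h) (w : V) = σ g (σ h w)
    rw [map_mul]; rfl

/-- The kernel of a representation is trivial or everything. -/
theorem eq_one_of_eq_one {G : Type*} [Group G] [IsSimpleGroup G] {σ : G →* Module.End K V} {x : G} (hx : x ≠ 1)
    (h : σ x = 1) (g : G) : σ g = 1 := by
  rcases (inferInstance : σ.ker.Normal).eq_bot_or_eq_top with h1 | h1
  · exfalso
    have : x ∈ σ.ker := h
    rw [h1] at this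
    exact hx this
  · have : g ∈ σ.ker := by rw [h1]; trivial
    exact this

theorem X_ne_one : X ≠ 1 := by
  intro h
  have := order_X
  rw [h, orderOf_one] at this
  norm_num at this

/-- Representations of dimension less than `8` are trivial. -/
theorem triv_of_lt (h2 : (2 : K) ≠ 0) (h3 : (3 : K) ≠ 0) {σ : Spor.M11 →* Module.End K V} (h : finrank K V < 8)
    (g : Spor.M11) : σ g = 1 := by
  have := simple11
  exact eq_one_of_eq_one X_ne_one (rel.trivial_of_lt h2 h3 h) g

section main

variable {σ : Spor.M11 →* Module.End K V} {v0 : V}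

/-- The images of `v0`. -/
noncomputable def ob (σ : Spor.M11 →* Module.End K V) (v0 : V) (p : Pt) : V := σ (ePt.symm p).out v0

theorem ob_mk (hfix : ∀ k ∈ L0, σ k v0 = v0) (g : Spor.M11) : ob σ v0 (ePt (g : Spor.M11 ⧸ L0)) = σ g v0 := by
  obtain ⟨k, hk⟩ := QuotientGroup.mk_out_eq_mul L0 g
  unfold ob
  rw [Equiv.symm_apply_apply, hk, mul_apply', hfix k k.2]

/-- The action on the points. -/
def act (g : Spor.M11) : Equiv.Perm Pt where
  toFun p := ⟨(g : Equiv.Perm GolayPt) p, (apply_mem g).2 p.2⟩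
  invFun p := ⟨((g⁻¹ : Spor.M11) : Equiv.Perm GolayPt) p, (apply_mem g⁻¹).2 p.2⟩
  left_inv p := Subtype.ext ((g : Equiv.Perm GolayPt).symm_apply_apply p)
  right_inv p := Subtype.ext ((g : Equiv.Perm GolayPt).apply_symm_apply p)

theorem ob_smul (hfix : ∀ k ∈ L0, σ k v0 = v0) (g : Spor.M11) (p : Pt) : σ g (ob σ v0 p) = ob σ v0 (act g p) := by
  obtain ⟨i, rfl⟩ := ePt.surjective p
  induction i using QuotientGroup.induction_on with
  | H h =>
    rw [ob_mk hfix, ← mul_apply', ← ob_mk hfix (g * h)]
    rfl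

theorem trans_act (p q : Pt) : ∃ g, act g p = q := by
  obtain ⟨i, rfl⟩ := ePt.surjective p
  obtain ⟨j, rfl⟩ := ePt.surjective q
  induction i using QuotientGroup.induction_on with
  | H g =>
    induction j using QuotientGroup.induction_on with
    | H h =>
      refine ⟨h * g⁻¹, Subtype.ext ?_⟩
      change (h : Equiv.Perm GolayPt) ((g : Equiv.Perm GolayPt)⁻¹ ((g : Equiv.Perm GolayPt) none)) =
        (h : Equiv.Perm GolayPt) none
      rw [show (g : Equiv.Perm GolayPt)⁻¹ ((g : Equiv.Perm GolayPt) none) = none from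
        (g : Equiv.Perm GolayPt).symm_apply_apply none]

theorem act_mul (g h : Spor.M11) (p : Pt) : act (g * h) p = act g (act h p) := rfl

theorem act_one' (p : Pt) : act 1 p = p := rfl

/-- The permutation representation. -/
def pr (K : Type*) [Field K] : Spor.M11 →* Module.End K (Pt → K) where
  toFun g := LinearMap.funLeft K K (act g⁻¹)
  map_one' := by
    refine LinearMap.ext fun f => funext fun p => ?_
    rw [inv_one]
    rfl
  map_mul' g h := by
    refine LinearMap.ext fun f => funext fun p => ?_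
    rw [mul_inv_rev]
    rfl

theorem pr_apply (g : Spor.M11) (f : Pt → K) (p : Pt) : pr K g f p = f (act g⁻¹ p) := rfl

/-- **Dichotomy** : `M₁₁` fixes `v0` or `V` is the deleted permutation module. -/
theorem sys (h2 : (2 : K) ≠ 0) (h3 : (3 : K) ≠ 0) (hV : finrank K V = 11) (hfix : ∀ k ∈ L0, σ k v0 = v0)
    (hne : ∃ g, σ g v0 ≠ v0) : Sys K (ob σ v0) := by
  classical
  let Φ : (Pt → K) →ₗ[K] V := Fintype.linearCombination K (ob σ v0)
  have hΦ : ∀ c, Φ c = ∑ p, c p • ob σ v0 p := fun c => rfl
  have heq : ∀ g c, Φ (pr K g c) = σ g (Φ c) := by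
    intro g c
    rw [hΦ, hΦ, map_sum, ← Equiv.sum_comp (act g)]
    refine Finset.sum_congr rfl fun p _ => ?_
    rw [map_smul, ob_smul hfix, pr_apply, ← act_mul, inv_mul_cancel, act_one']
  have hv0 : v0 ∈ LinearMap.range Φ := by
    refine ⟨Pi.single (ePt ((1 : Spor.M11) : Spor.M11 ⧸ L0)) 1, ?_⟩
    rw [hΦ, Finset.sum_eq_single (ePt ((1 : Spor.M11) : Spor.M11 ⧸ L0)), Pi.single_eq_same, one_smul, ob_mk hfix,
      act_one]
    · intro p _ hp
      rw [Pi.single_eq_of_ne hp, zero_smul]
    · intro h; exact absurd (Finset.mem_univ _) h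
  have hWinv : ∀ g, ∀ w ∈ LinearMap.range Φ, σ g w ∈ LinearMap.range Φ := by
    rintro g _ ⟨c, rfl⟩
    exact ⟨pr K g c, heq g c⟩
  have hRinv : ∀ g, ∀ c ∈ LinearMap.ker Φ, pr K g c ∈ LinearMap.ker Φ := by
    intro g c hc
    rw [LinearMap.mem_ker] at hc ⊢
    rw [heq, hc, map_zero]
  have hW8 : 8 ≤ finrank K (LinearMap.range Φ) := by
    by_contra hlt
    push Not at hlt
    obtain ⟨g, hg⟩ := hne
    apply hg
    have h1 := triv_of_lt h2 h3 (σ := res σ (LinearMap.range Φ) hWinv) hlt g
    have h4 := congrArg (fun f : Module.End K (LinearMap.range Φ) => ((f ⟨v0, hv0⟩ : LinearMap.range Φ) : V)) h1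
    exact h4
  have hcard : Fintype.card Pt = 12 := by rw [← Nat.card_eq_fintype_card]; exact card_Pt
  have hrn := LinearMap.finrank_range_add_finrank_ker Φ
  rw [Module.finrank_fintype_fun_eq_card, hcard] at hrn
  have hRc : ∀ c ∈ LinearMap.ker Φ, ∀ p q, c p = c q := by
    intro c hc p q
    obtain ⟨g, hg⟩ := trans_act p q
    have h1 := triv_of_lt h2 h3 (σ := res (pr K) (LinearMap.ker Φ) hRinv) (by omega) g⁻¹
    have h4 := congrArg (fun f : Module.End K (LinearMap.ker Φ) => ((f ⟨c, hc⟩ : LinearMap.ker Φ) : Pt → K) p) h1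
    have h5 : c (act g⁻¹⁻¹ p) = c p := h4
    rw [inv_inv, hg] at h5
    exact h5.symm
  have hR1 : finrank K (LinearMap.ker Φ) ≤ 1 := by
    have hle : LinearMap.ker Φ ≤ Submodule.span K {fun _ => (1 : K)} := by
      intro c hc
      obtain ⟨p⟩ : Nonempty Pt := Fintype.card_pos_iff.1 (by rw [hcard]; norm_num)
      refine Submodule.mem_span_singleton.2 ⟨c p, funext fun q => ?_⟩
      rw [Pi.smul_apply, smul_eq_mul, mul_one]
      exact hRc c hc p q
    exact (Submodule.finrank_mono hle).trans ((finrank_span_le_card _).trans (by simp))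
  have hle := Submodule.finrank_le (LinearMap.range Φ)
  have htop : LinearMap.range Φ = ⊤ := by
    apply Submodule.eq_top_of_finrank_eq
    omega
  refine ⟨?_, by rw [hcard, hV], by omega, ?_⟩
  · rw [← htop]
    exact (Fintype.range_linearCombination K (ob σ v0)).symm
  · have hpos : 0 < finrank K (LinearMap.ker Φ) := by
      rw [htop, finrank_top] at hrn
      omega
    obtain ⟨c, hc, hc0⟩ := exists_fix_of_pos hpos
    obtain ⟨p, hp⟩ : ∃ p, c p ≠ 0 := by
      by_contra hcon
      push Not at hcon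
      exact hc0 (funext hcon)
    have h1 := LinearMap.mem_ker.1 hc
    rw [hΦ, Finset.sum_congr rfl fun q _ => by rw [hRc c hc q p], ← Finset.smul_sum] at h1
    exact (smul_eq_zero.1 h1).resolve_left hp

/-- The trace in the second case. -/
theorem trace_eq (h2 : (2 : K) ≠ 0) (h3 : (3 : K) ≠ 0) (hV : finrank K V = 11) (hfix : ∀ k ∈ L0, σ k v0 = v0)
    (hne : ∃ g, σ g v0 ≠ v0) (g : Spor.M11) {P k : ℕ} (hg : IsT g P)
    (hk : (Finset.univ.filter fun i : Pt => papp P (idx i) = idx i).card = k) :
    LinearMap.trace K V (σ g) = (k : K) - 1 := by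
  classical
  rw [(sys h2 h3 hV hfix hne).trace (π := act g) fun p => ob_smul hfix g p, ← hk]
  congr 3
  ext p
  rw [Finset.mem_filter, Finset.mem_filter, ← hg]
  refine and_congr_right fun _ => ⟨fun h => ?_, fun h => Subtype.ext (idx_injective h)⟩
  exact congrArg (fun q : Pt => idx q) h

end main

end Cfsg.Agent.H882.M11V
end

-- part: H882/Del/M12V
section
/-!
# Representations of `M₁₂` of dimension `11`, characteristic `≠ 2, 3` (helper882)

One of the two classes of subgroups `M₁₁` fixes a nonzero vector.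
-/

set_option autoImplicit false
set_option linter.unusedSectionVars false

namespace Cfsg.Agent.H882.M12V

open Cfsg Module Cfsg.Agent.SporadicA.GolayBase Cfsg.Agent.SporadicA.GolayPerm Cfsg.Agent.H882.Tab
open Cfsg.Agent.H882.Grp Cfsg.Agent.H882.Dim Cfsg.Agent.H882.Del Cfsg.Agent.H637.JW Cfsg.Agent.H882.M11V
open scoped Pointwise

/-- the inclusion -/
def inc : Spor.M11 →* Spor.M12 := Subgroup.inclusion inf_le_left

theorem tt : projInv * projInv = 1 := IsT.eq (iT.mul iT) isT_one (by decide +kernel)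

theorem tw_mem {g : Equiv.Perm GolayPt} (hg : g ∈ Spor.M12) : projInv * g * projInv ∈ Spor.M12 := by
  have ht : projInv ∈ M24 := Cfsg.Agent.S0372.result
  refine ⟨mul_mem (mul_mem ht hg.1) ht, ?_⟩
  have h1 : ∀ p : GolayPt, projInv p ∈ Spor.squareDodecad ↔ ¬ p ∈ Spor.squareDodecad := by
    rw [squareDodecad_eq]
    simp only [mem_fin]
    decide +kernel
  have h2 : ∀ p : GolayPt, g p ∈ Spor.squareDodecad ↔ p ∈ Spor.squareDodecad := by
    intro p
    have h3 : g • Spor.squareDodecad = Spor.squareDodecad := hg.2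
    have h4 := Finset.smul_mem_smul_finset_iff (s := Spor.squareDodecad) (b := p) g
    rw [h3] at h4
    exact h4
  change (projInv * g * projInv) ∈ MulAction.stabilizer (Equiv.Perm GolayPt) Spor.squareDodecad
  rw [MulAction.mem_stabilizer_finset']
  intro p hp
  change projInv (g (projInv p)) ∈ _
  rw [h1, h2, h1, not_not]
  exact hp

/-- conjugation by `projInv` -/
def tw : Spor.M12 →* Spor.M12 where
  toFun g := ⟨projInv * g * projInv, tw_mem g.2⟩
  map_one' := Subtype.ext (by
    change projInv * 1 * projInv = 1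
    rw [mul_one, tt])
  map_mul' g h := Subtype.ext (by
    change projInv * (g * h : Equiv.Perm GolayPt) * projInv = projInv * g * projInv * (projInv * h * projInv)
    rw [mul_assoc (projInv * (g : Equiv.Perm GolayPt)) projInv, ← mul_assoc projInv (projInv * (h : Equiv.Perm GolayPt)),
      ← mul_assoc projInv projInv, tt, one_mul]
    group)

theorem tw_val (g : Spor.M12) : ((tw g : Spor.M12) : Equiv.Perm GolayPt) = projInv * g * projInv := rfl

theorem tw_tw (g : Spor.M12) : tw (tw g) = g := by
  apply Subtype.ext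
  rw [tw_val, tw_val]
  calc projInv * (projInv * (g : Equiv.Perm GolayPt) * projInv) * projInv
      = projInv * projInv * g * (projInv * projInv) := by group
    _ = g := by rw [tt, one_mul, mul_one]

/-- `L0` is normalised by `projInv`. -/
theorem tw_L0 {l : Spor.M11} (hl : l ∈ L0) : ∃ l' ∈ L0, tw (inc l) = inc l' := by
  have h0 : projInv none = some 0 := rfl
  have h1 : projInv (some 0) = none := rfl
  have e0 : (l : Equiv.Perm GolayPt) none = none := hl
  have e1 : (l : Equiv.Perm GolayPt) (some 0) = some 0 := l.2.2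
  have m1 : (projInv * (l : Equiv.Perm GolayPt) * projInv) ∈ Spor.M11 := by
    refine ⟨tw_mem l.2.1, ?_⟩
    change projInv ((l : Equiv.Perm GolayPt) (projInv (some 0))) = some 0
    rw [h1, e0, h0]
  refine ⟨⟨_, m1⟩, ?_, rfl⟩
  change projInv ((l : Equiv.Perm GolayPt) (projInv none)) = none
  rw [h0, e1, h1]

variable {K : Type*} [Field K] {V : Type*} [AddCommGroup V] [Module K V] [FiniteDimensional K V]

/-- trace of a rank one operator -/
theorem trace_smul {f : Module.End K V} {w : V} (hf : ∀ v, ∃ c : K, f v = c • w) :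
    LinearMap.trace K V f • w = f w := by
  by_cases hw : w = 0
  · rw [hw, smul_zero, map_zero]
  obtain ⟨g, hg⟩ : ∃ g : Module.Dual K V, g w ≠ 0 := by
    by_contra hcon
    push Not at hcon
    exact hw ((Module.forall_dual_apply_eq_zero_iff K w).1 hcon)
  have h1 : f = ((g w)⁻¹ • (g ∘ₗ f)).smulRight w := by
    refine LinearMap.ext fun v => ?_
    obtain ⟨c, hc⟩ := hf v
    rw [LinearMap.smulRight_apply, LinearMap.smul_apply, LinearMap.comp_apply, hc, map_smul, smul_eq_mul, smul_eq_mul,
      mul_comm c, ← mul_assoc, inv_mul_cancel₀ hg, one_mul]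
  obtain ⟨c, hc⟩ := hf w
  conv_lhs => rw [h1]
  rw [LinearMap.trace_smulRight, LinearMap.smul_apply, LinearMap.comp_apply, hc, map_smul, smul_eq_mul, smul_eq_mul,
    mul_comm c, ← mul_assoc, inv_mul_cancel₀ hg, one_mul]

/-- The orbit of length `8` of `S`. -/
def o8 : Finset Pt := Finset.univ.filter fun p => (3836960 : ℕ).testBit (idx p) = true

theorem orbits : ∀ p q : Pt, ((3836960 : ℕ).testBit (idx p) = (3836960 : ℕ).testBit (idx q)) →
    ∃ i : Fin 8, (papp tS)^[(i : ℕ)] (idx p) = idx q := by
  decide +kernel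

theorem orb_inv : ∀ p : GolayPt, (3836960 : ℕ).testBit (papp tS (idx p)) = (3836960 : ℕ).testBit (idx p) := by
  decide +kernel

theorem exists_in : ∃ p : Pt, (3836960 : ℕ).testBit (idx p) = true := by decide +kernel

theorem exists_out : ∃ p : Pt, (3836960 : ℕ).testBit (idx p) = false := by decide +kernel

section

variable {σ : Spor.M11 →* Module.End K V} {v0 : V}

theorem act_pow_idx {g : Spor.M11} {P : ℕ} (hg : IsT g P) (i : ℕ) (p : Pt) :
    idx ((act g)^[i] p : Pt) = (papp P)^[i] (idx p) := by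
  induction i with
  | zero => rfl
  | succ i ih =>
    rw [Function.iterate_succ_apply', Function.iterate_succ_apply', ← ih, ← hg]
    rfl

/-- The fixed space of `S` is one-dimensional. -/
theorem fix_S (h2 : (2 : K) ≠ 0) (S' : Sys K (ob σ v0)) (hfix : ∀ k ∈ L0, σ k v0 = v0) :
    (∑ p ∈ o8, ob σ v0 p ≠ 0) ∧ (σ S (∑ p ∈ o8, ob σ v0 p) = ∑ p ∈ o8, ob σ v0 p) ∧
      ∀ w, σ S w = w → ∃ c : K, w = c • ∑ p ∈ o8, ob σ v0 p := by
  classical
  have hmem : ∀ p : Pt, p ∈ o8 ↔ (3836960 : ℕ).testBit (idx p) = true := fun p => by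
    rw [o8, Finset.mem_filter]; simp
  have hactmem : ∀ p : Pt, act S p ∈ o8 ↔ p ∈ o8 := by
    intro p
    rw [hmem, hmem, ← orb_inv p, ← iS]
    rfl
  refine ⟨?_, ?_, ?_⟩
  · intro h0
    obtain ⟨p, hp⟩ := exists_in
    obtain ⟨q, hq⟩ := exists_out
    have h1 : ∑ p, (if p ∈ o8 then (1 : K) else 0) • ob σ v0 p = 0 := by
      rw [← h0]
      simp only [ite_smul, one_smul, zero_smul]
      rw [Finset.sum_ite_mem, Finset.univ_inter]
    have h3 := S'.rel h1 p q
    rw [if_pos ((hmem p).2 hp), if_neg (fun h => by rw [hmem, hq] at h; simp at h)] at h3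
    exact one_ne_zero h3
  · rw [map_sum]
    rw [Finset.sum_congr rfl fun p _ => ob_smul hfix S p]
    refine Finset.sum_bij' (fun p _ => act S p) (fun p _ => (act S).symm p) ?_ ?_ ?_ ?_ ?_
    · intro p hp
      exact (hactmem p).2 hp
    · intro p hp
      rw [← hactmem, Equiv.apply_symm_apply]
      exact hp
    · intro p _
      exact Equiv.symm_apply_apply _ _
    · intro p _
      exact Equiv.apply_symm_apply _ _
    · intro p _
      rfl
  · intro w hw
    obtain ⟨c, hc⟩ : ∃ c : Pt → K, ∑ i, c i • ob σ v0 i = w := by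
      have h1 : w ∈ Submodule.span K (Set.range (ob σ v0)) := by rw [S'.span]; trivial
      rw [← Fintype.range_linearCombination K] at h1
      obtain ⟨c, hc⟩ := h1
      exact ⟨c, hc⟩
    have h1 : ∑ i, (c i - c (act S i)) • ob σ v0 (act S i) = 0 := by
      simp only [sub_smul, Finset.sum_sub_distrib]
      rw [Equiv.sum_comp (act S) (fun i => c i • ob σ v0 i), hc, sub_eq_zero]
      conv_rhs => rw [← hw, ← hc, map_sum]
      exact Finset.sum_congr rfl fun i _ => by rw [map_smul, ob_smul hfix]
    have h3 : ∑ i, (c ((act S).symm i) - c i) • ob σ v0 i = 0 := by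
      rw [← h1, ← Equiv.sum_comp (act S)]
      exact Finset.sum_congr rfl fun i _ => by rw [Equiv.symm_apply_apply]
    obtain ⟨p0, hp0⟩ := exists_in
    obtain ⟨q0, hq0⟩ := exists_out
    set d := c ((act S).symm p0) - c p0 with hd
    have h4 : ∀ i, c (act S i) = c i - d := by
      intro i
      have := S'.rel h3 (act S i) p0
      rw [Equiv.symm_apply_apply, ← hd] at this
      rw [← this]
      ring
    have h5 : ∀ (n : ℕ) (i : Pt), c ((act S)^[n] i) = c i - n * d := by
      intro n
      induction n with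
      | zero => intro i; simp
      | succ n ih =>
        intro i
        rw [Function.iterate_succ_apply', h4, ih]
        push_cast
        ring
    have h8 : (act S)^[8] p0 = p0 := by
      apply Subtype.ext
      apply idx_injective
      rw [act_pow_idx iS]
      have : ∀ i : Fin 24, (papp tS)^[8] (i : ℕ) = i := by decide +kernel
      exact this ⟨idx p0, idx_lt _⟩
    have h9 := h5 8 p0
    rw [h8] at h9
    have hd0 : d = 0 := by
      have h10 : (2 : K) * (2 * (2 * d)) = 0 := by
        have : (2 : K) * (2 * (2 * d)) = (8 : ℕ) * d := by push_cast; ring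
        rw [this]
        linear_combination h9
      exact ((mul_eq_zero.1 ((mul_eq_zero.1 ((mul_eq_zero.1 h10).resolve_left h2)).resolve_left h2)).resolve_left h2)
    have h10 : ∀ p q : Pt, ((3836960 : ℕ).testBit (idx p) = (3836960 : ℕ).testBit (idx q)) → c p = c q := by
      intro p q hpq
      obtain ⟨i, hi⟩ := orbits p q hpq
      have : (act S)^[(i : ℕ)] p = q := by
        apply Subtype.ext
        apply idx_injective
        rw [act_pow_idx iS, hi]
      rw [← this, h5, hd0, mul_zero, sub_zero]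
    refine ⟨c p0 - c q0, ?_⟩
    have h11 : w = ∑ i, (c i - c q0) • ob σ v0 i := by
      simp only [sub_smul, Finset.sum_sub_distrib]
      rw [hc, ← Finset.smul_sum, S'.sum, smul_zero, sub_zero]
    rw [h11, Finset.smul_sum, ← Finset.sum_subset (Finset.subset_univ o8)]
    · refine Finset.sum_congr rfl fun p hp => ?_
      rw [h10 p p0 (by rw [(hmem p).1 hp, hp0])]
    · intro p _ hp
      rw [h10 p q0 (by rw [hq0]; rw [hmem] at hp; simpa using hp), sub_self, zero_smul]

end

section main

theorem r_SJ : inc S * J = J * (inc S * inc S * (inc S * inc S) * inc S) :=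
  eq12 (m12 iS iJ) (m12 iJ (m12 (m12 (m12 iS iS) (m12 iS iS)) iS)) (by decide +kernel)

theorem r_conj : inc S * J = J * (inc S * inc S * (inc S * inc S)) * inc S :=
  eq12 (m12 iS iJ) (m12 (m12 iJ (m12 (m12 iS iS) (m12 iS iS))) iS) (by decide +kernel)

theorem r_K3 : K3 * inc S = J * inc S * K3 := eq12 (m12 iK3 iS) (m12 (m12 iJ iS) iK3) (by decide +kernel)

theorem r_K4 : K4 * inc S = J * (inc S * inc S * inc S) * K4 :=
  eq12 (m12 iK4 iS) (m12 (m12 iJ (m12 (m12 iS iS) iS)) iK4) (by decide +kernel)

theorem r_K5 : K5 * inc A = J * (inc S * inc S) * K5 :=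
  eq12 (m12 iK5 iA) (m12 (m12 iJ (m12 iS iS)) iK5) (by decide +kernel)

theorem r_K6 : K6 * tw (inc (S * S)) = J * K6 := by
  have h : IsT (tw (inc (S * S)) : Spor.M12) (pcomp (pcomp tT (pcomp tS tS)) tT) := (iT.mul (iS.mul iS)).mul iT
  exact eq12 (m12 iK6 h) (m12 iJ iK6) (by decide +kernel)

theorem trace_conj {G : Type*} [Group G] {σ : G →* Module.End K V} {g h k : G} (h1 : k * g = h * k) :
    LinearMap.trace K V (σ h) = LinearMap.trace K V (σ g) := by
  have h2 : h = k * g * k⁻¹ := by rw [h1, mul_inv_cancel_right]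
  rw [h2, map_mul, LinearMap.trace_mul_comm, ← map_mul, ← mul_assoc, inv_mul_cancel, one_mul]

/-- **Fixed vectors in dimension `11`.** -/
theorem m12_fixed (h2 : (2 : K) ≠ 0) (h3 : (3 : K) ≠ 0) (hV : finrank K V = 11) {σ : Spor.M12 →* Module.End K V}
    (hσ : ∃ g, σ g ≠ 1) : ∃ v0 : V, v0 ≠ 0 ∧
      ((∀ g : Spor.M11, σ (inc g) v0 = v0) ∨ ∀ g : Spor.M11, σ (tw (inc g)) v0 = v0) := by
  have hs := simple12
  have hX1 : inc X ≠ 1 := fun h => X_ne_one (Subtype.ext (congrArg (fun g : Spor.M12 => (g : Equiv.Perm GolayPt)) h))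
  have hne : σ (inc X) ≠ 1 := by
    intro h
    obtain ⟨g, hg⟩ := hσ
    exact hg (eq_one_of_eq_one hX1 h g)
  let σ1 : Spor.M11 →* Module.End K V := σ.comp inc
  let σ2 : Spor.M11 →* Module.End K V := (σ.comp tw).comp inc
  have e1 : ∀ g, σ1 g = σ (inc g) := fun _ => rfl
  have e2 : ∀ g, σ2 g = σ (tw (inc g)) := fun _ => rfl
  obtain ⟨v0, hv0, hA, hB, hY, hX⟩ := rel.exists_fixed (σ := σ1) h2 h3 hV hne
  have hL1 : ∀ l ∈ L0, σ1 l v0 = v0 := fun l hl =>
    L0_le (T := stab σ1 v0) hA hB hY hX hl
  have hL2 : ∀ l ∈ L0, σ2 l v0 = v0 := by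
    intro l hl
    obtain ⟨l', hl', h⟩ := tw_L0 hl
    rw [e2, h]
    exact hL1 l' hl'
  refine ⟨v0, hv0, ?_⟩
  by_contra hcon
  rw [not_or] at hcon
  obtain ⟨c1, c2⟩ := hcon
  push Not at c1 c2
  have S1 := sys h2 h3 hV hL1 c1
  -- traces
  have tS' : LinearMap.trace K V (σ (inc S)) = ((0 : ℕ) : K) - 1 :=
    trace_eq (σ := σ1) h2 h3 hV hL1 c1 S iS (by decide +kernel)
  have tA' : LinearMap.trace K V (σ (inc A)) = ((4 : ℕ) : K) - 1 :=
    trace_eq (σ := σ1) h2 h3 hV hL1 c1 A iA (by decide +kernel)
  have tS2 : LinearMap.trace K V (σ (tw (inc (S * S)))) = ((0 : ℕ) : K) - 1 :=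
    trace_eq (σ := σ2) h2 h3 hV hL2 c2 (S * S) (m11 iS iS) (by decide +kernel)
  rw [← trace_conj r_K6] at tS2
  have t1 := tS'
  rw [← trace_conj r_K3] at t1
  have t2 := tA'
  rw [← trace_conj r_K5] at t2
  have t3 := tS'
  rw [← trace_conj r_K4] at t3
  -- the element `S` of order `8`
  obtain ⟨w0, w1, w2⟩ := fix_S h2 S1 hL1
  set w := ∑ p ∈ o8, ob σ1 v0 p with hw
  set s : Module.End K V := σ (inc S) with hsdef
  set j : Module.End K V := σ J with hjdef
  have w1' : s w = w := w1
  have s8 : s * s * (s * s) * (s * s * (s * s)) = 1 := by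
    have := congrArg (fun g => σ (inc g)) rel.hzz
    simpa only [map_mul, map_one] using this
  let N : Module.End K V := (1 + s) * (1 + s * s) * (1 + s * s * (s * s))
  have hsN : s * N = N := by
    have h4 : s * N - N = s * s * (s * s) * (s * s * (s * s)) - 1 := by
      simp only [N]
      noncomm_ring
    rw [s8, sub_self] at h4
    exact sub_eq_zero.1 h4
  have hNw : N w = (8 : K) • w := by
    have f1 : (1 + s * s * (s * s)) w = (2 : K) • w := by
      change w + s (s (s (s w))) = _
      rw [w1', w1', w1', w1', two_smul]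
    have f2 : (1 + s * s) w = (2 : K) • w := by
      change w + s (s w) = _
      rw [w1', w1', two_smul]
    have f3 : (1 + s) w = (2 : K) • w := by
      change w + s w = _
      rw [w1', two_smul]
    change (1 + s) ((1 + s * s) ((1 + s * s * (s * s)) w)) = _
    rw [f1, map_smul, f2, map_smul, map_smul, f3, smul_smul, smul_smul]
    norm_num
  have hrk : ∀ v, ∃ c : K, (j * N) v = c • w := by
    intro v
    obtain ⟨c, hc⟩ := w2 (N v) (by
      have := congrArg (fun f : Module.End K V => f v) hsN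
      exact this)
    have hsj : s * j = j * (s * s * (s * s) * s) := by
      have := congrArg σ r_SJ
      simpa only [map_mul] using this
    obtain ⟨c', hc'⟩ := w2 (j w) (by
      have := congrArg (fun f : Module.End K V => f w) hsj
      have this : s (j w) = j (s (s (s (s (s w))))) := this
      rw [w1', w1', w1', w1', w1'] at this
      exact this)
    refine ⟨c * c', ?_⟩
    change j (N v) = _
    rw [hc, map_smul, hc', smul_smul]
  have htr : LinearMap.trace K V (j * N) = 0 := by
    have u0 : LinearMap.trace K V (σ (J * (inc S * inc S * (inc S * inc S)))) = LinearMap.trace K V (σ J) :=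
      trace_conj (k := inc S) r_conj
    have u1 : LinearMap.trace K V (σ (J * (inc S * inc S * (inc S * inc S)) * inc S)) =
        LinearMap.trace K V (σ (J * inc S)) :=
      trace_conj (k := inc S) (by rw [← mul_assoc, r_conj])
    have u2 : LinearMap.trace K V (σ (J * (inc S * inc S * (inc S * inc S)) * (inc S * inc S))) =
        LinearMap.trace K V (σ (J * (inc S * inc S))) :=
      trace_conj (k := inc S) (by rw [← mul_assoc, r_conj]; group)
    have u3 : LinearMap.trace K V (σ (J * (inc S * inc S * (inc S * inc S)) * (inc S * inc S * inc S))) =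
        LinearMap.trace K V (σ (J * (inc S * inc S * inc S))) :=
      trace_conj (k := inc S) (by rw [← mul_assoc, r_conj]; group)
    rw [tS2] at u0
    rw [t1] at u1
    rw [t2] at u2
    rw [t3] at u3
    have hN : j * N = σ J + σ (J * inc S) + σ (J * (inc S * inc S)) + σ (J * (inc S * inc S * inc S)) +
        (σ (J * (inc S * inc S * (inc S * inc S))) + σ (J * (inc S * inc S * (inc S * inc S)) * inc S) +
          σ (J * (inc S * inc S * (inc S * inc S)) * (inc S * inc S)) +
          σ (J * (inc S * inc S * (inc S * inc S)) * (inc S * inc S * inc S))) := by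
      simp only [map_mul, N]
      noncomm_ring
    rw [hN]
    simp only [map_add]
    rw [u0, u1, u2, u3, tS2, t1, t2, t3]
    push_cast
    ring
  have h10 := trace_smul hrk
  rw [htr, zero_smul, Module.End.mul_apply, hNw, map_smul] at h10
  have h11 := (smul_eq_zero.1 h10.symm).resolve_left (by
    intro h8
    have : (2 : K) * (2 * 2) = 0 := by linear_combination h8
    exact h2 (by simpa using this))
  exact w0 (injective (σ := σ) J (h11.trans (map_zero _).symm))

end main

end Cfsg.Agent.H882.M12V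
end

-- part: H882/Sc/M12Three
section
/-!
# `M₁₂` has no orthogonal representation of dimension `11` in characteristic `3` (helper882)

Scott's lemma for the triple `(2B, 3B, 11A)`.
-/

set_option autoImplicit false
set_option linter.unusedSectionVars false
set_option maxRecDepth 10000

namespace Cfsg.Agent.H882.ScM12

open Module Subgroup Cfsg Cfsg.Agent.H637.JW Cfsg.Agent.H882.Dim Cfsg.Agent.H882.Tab
open Cfsg.Agent.SporadicA.GolayBase Cfsg.Agent.SporadicA.GolayPerm
open Cfsg.Agent.H882.Sc (Irr Form eig klein_sub le_of_char fix_conj)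

variable {K : Type*} [Field K] {V : Type*} [AddCommGroup V] [Module K V] [FiniteDimensional K V]

/-- An extraspecial group of order `32` with centre `z`. -/
theorem four_dvd_of {G : Type*} [Group G] {σ : G →* Module.End K V} (h2 : (2 : K) ≠ 0) {z p q r s : G}
    (hzz : z * z = 1) (hpp : p * p = 1) (hrr : r * r = 1) (hpz : p * z = z * p) (hqz : q * z = z * q)
    (hrz : r * z = z * r) (hsz : s * z = z * s) (hpq : p * q = z * (q * p)) (hrs : r * s = z * (s * r))
    (hrp : r * p = p * r) (hsp : s * p = p * s) : ∃ k, finrank K V = finrank K (Fix σ z) + 4 * k := by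
  have s0 := split_two (σ := σ) h2 hzz ⊤ (fun _ _ => trivial)
  rw [top_inf_eq, top_inf_eq, finrank_top] at s0
  have han : ∀ g : G, g * z = z * g → ∀ v ∈ An σ z, σ g v ∈ An σ z := by
    intro g hg v hv
    rw [mem_An] at hv ⊢
    rw [← mul_apply', ← hg, mul_apply', hv, map_neg]
  have h1 := half (σ := σ) h2 hpp (An σ z) (han p hpz) (σ q) (han q hqz)
    (fun v _ h0 => injective (σ := σ) q (h0.trans (map_zero _).symm))
    (fun v hv => by
      have h3 := han q hqz _ (han p hpz v hv)
      rw [mem_An] at h3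
      rw [← mul_apply', hpq, mul_apply', mul_apply', h3])
  have hfp : ∀ g : G, g * z = z * g → g * p = p * g → ∀ v ∈ An σ z ⊓ Fix σ p, σ g v ∈ An σ z ⊓ Fix σ p :=
    fun g hg hgp v hv => ⟨han g hg v hv.1, fix_le_of_comm hgp hv.2⟩
  have h3 := half (σ := σ) h2 hrr (An σ z ⊓ Fix σ p) (hfp r hrz hrp) (σ s) (hfp s hsz hsp)
    (fun v _ h0 => injective (σ := σ) s (h0.trans (map_zero _).symm))
    (fun v hv => by
      have h3 := han s hsz _ (han r hrz v hv.1)
      rw [mem_An] at h3
      rw [← mul_apply', hrs, mul_apply', mul_apply', h3])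
  exact ⟨finrank K (An σ z ⊓ H637.JW.Fix σ p ⊓ H637.JW.Fix σ r : Submodule K V), by omega⟩

def tZ : ℕ := 903068749257769224688088114104667209
def tZi : ℕ := 942061333012940960982548024188273773
def tN : ℕ := 887014716209510070542526050436925475
def tP : ℕ := 943990642723511586827451626750545106
def tQ : ℕ := 944538153726689472204056554048594313
def tR : ℕ := 638192922561873515343640573858296068
def tU : ℕ := 476967890056073925362818833625189572

noncomputable def a : Spor.M12 := mk12 tA (by decide +kernel)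
noncomputable def y : Spor.M12 := mk12 tZ (by decide +kernel)
noncomputable def yi : Spor.M12 := mk12 tZi (by decide +kernel)
noncomputable def n5 : Spor.M12 := mk12 tN (by decide +kernel)
noncomputable def p : Spor.M12 := mk12 tP (by decide +kernel)
noncomputable def q : Spor.M12 := mk12 tQ (by decide +kernel)
noncomputable def r : Spor.M12 := mk12 tR (by decide +kernel)
noncomputable def s : Spor.M12 := mk12 tU (by decide +kernel)

theorem ia : IsT a tA := isT_mk12 _ _
theorem iy : IsT y tZ := isT_mk12 _ _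
theorem iyi : IsT yi tZi := isT_mk12 _ _
theorem in5 : IsT n5 tN := isT_mk12 _ _
theorem ip : IsT p tP := isT_mk12 _ _
theorem iq : IsT q tQ := isT_mk12 _ _
theorem ir : IsT r tR := isT_mk12 _ _
theorem is : IsT s tU := isT_mk12 _ _

/-- words -/
noncomputable def wd : List ℕ → Spor.M12
  | [] => 1
  | 0 :: l => a * wd l
  | 1 :: l => y * wd l
  | _ :: l => yi * wd l

def wt : List ℕ → ℕ
  | [] => pone
  | 0 :: l => pcomp tA (wt l)
  | 1 :: l => pcomp tZ (wt l)
  | _ :: l => pcomp tZi (wt l)

theorem isT_wd : ∀ l : List ℕ, IsT (wd l) (wt l)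
  | [] => one12
  | 0 :: l => m12 ia (isT_wd l)
  | 1 :: l => m12 iy (isT_wd l)
  | (_ + 2) :: l => m12 iyi (isT_wd l)

theorem y_inv : yi = y⁻¹ := by
  rw [eq_inv_iff_mul_eq_one]
  exact eq12 (m12 iyi iy) one12 (by decide +kernel)

theorem wd_mem : ∀ l : List ℕ, wd l ∈ Subgroup.closure ({a, y} : Set Spor.M12)
  | [] => one_mem _
  | 0 :: l => mul_mem (Subgroup.subset_closure (by simp)) (wd_mem l)
  | 1 :: l => mul_mem (Subgroup.subset_closure (by simp)) (wd_mem l)
  | (_ + 2) :: l => mul_mem (by rw [y_inv]; exact inv_mem (Subgroup.subset_closure (by simp))) (wd_mem l)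

theorem memB : M12V.inc Tab.B ∈ Subgroup.closure ({a, y} : Set Spor.M12) := by
  have h : M12V.inc Tab.B = wd [0, 1, 0, 1, 0, 2, 0, 1, 0, 2, 0, 2, 0, 1, 0, 1, 0, 2, 0, 1, 0, 2, 0, 2] :=
    eq12 iB (isT_wd _) (by decide +kernel)
  rw [h]
  exact wd_mem _

theorem memY : M12V.inc Tab.Y ∈ Subgroup.closure ({a, y} : Set Spor.M12) := by
  have h : M12V.inc Tab.Y = wd [2, 0, 1, 0, 2, 0, 1, 0, 1, 0, 1, 0, 2, 0, 1, 0, 2, 0, 1, 0, 1] :=
    eq12 iY (isT_wd _) (by decide +kernel)
  rw [h]
  exact wd_mem _

theorem memX : M12V.inc Tab.X ∈ Subgroup.closure ({a, y} : Set Spor.M12) := by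
  have h : M12V.inc Tab.X = wd [0, 1, 0, 1, 0, 2, 0, 2, 0, 1, 0, 1, 0, 2, 0, 2, 0, 1, 0, 1] :=
    eq12 iX (isT_wd _) (by decide +kernel)
  rw [h]
  exact wd_mem _

theorem memE : M12V.inc Tab.E ∈ Subgroup.closure ({a, y} : Set Spor.M12) := by
  have h : M12V.inc Tab.E = wd [2, 0, 1, 0, 1, 0, 2, 0, 1, 0, 2, 0, 1, 0, 1, 0, 2, 0, 1, 0, 2, 0, 1, 0, 1, 0, 2, 0, 1] :=
    eq12 iE (isT_wd _) (by decide +kernel)
  rw [h]
  exact wd_mem _

theorem memJ : Tab.J ∈ Subgroup.closure ({a, y} : Set Spor.M12) := by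
  have h : Tab.J = wd [2, 0, 2, 0, 1, 0, 2, 0, 1, 0, 1, 0] :=
    eq12 iJ (isT_wd _) (by decide +kernel)
  rw [h]
  exact wd_mem _

theorem memA : M12V.inc Tab.A ∈ Subgroup.closure ({a, y} : Set Spor.M12) := by
  have h : M12V.inc Tab.A = a := eq12 iA ia (by decide +kernel)
  rw [h]
  exact Subgroup.subset_closure (by simp)

theorem gen : Subgroup.closure ({a, y} : Set Spor.M12) = ⊤ := by
  set T := Subgroup.closure ({a, y} : Set Spor.M12) with hT
  have hfin : Finite Spor.M12 := Nat.finite_of_card_ne_zero (by rw [Grp.card12]; norm_num)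
  have hfin1 : Finite Spor.M11 := Nat.finite_of_card_ne_zero (by rw [Grp.card11]; norm_num)
  have s11 := Grp.simple11
  have s12 := Grp.simple12
  have hinc : Function.Injective M12V.inc := Subgroup.inclusion_injective _
  -- `M₁₁`
  have h1 : T.comap M12V.inc = ⊤ := by
    by_contra hne
    have hL : Grp.L0 ≤ T.comap M12V.inc := Grp.L0_le memA memB memY memX
    have hd : (T.comap M12V.inc).index ∣ 12 := by
      rw [← Grp.index_L0]
      exact Subgroup.index_dvd_of_le hL
    have h12 := Grp.index_twelve (by rw [Grp.card11]; norm_num) hd hne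
    have hcard : Nat.card (T.comap M12V.inc) = Nat.card Grp.L0 := by
      have h3 := (T.comap M12V.inc).card_mul_index
      have h4 := Grp.L0.card_mul_index
      rw [h12] at h3
      rw [Grp.index_L0] at h4
      omega
    have heq := Subgroup.eq_of_le_of_card_ge hL hcard.le
    have hE : Tab.E ∈ Grp.L0 := by
      rw [heq]
      exact memE
    have h5 := hE
    rw [Grp.mem_L0] at h5
    have h6 := Tab.iE none
    rw [h5] at h6
    revert h6
    decide +kernel
  have hr : M12V.inc.range ≤ T := by
    rintro _ ⟨g, rfl⟩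
    have : g ∈ T.comap M12V.inc := by rw [h1]; trivial
    exact this
  have hcr : Nat.card M12V.inc.range = 7920 := by
    rw [← Grp.card11]
    exact (Nat.card_congr (MonoidHom.ofInjective hinc).toEquiv).symm
  have hir : M12V.inc.range.index = 12 := by
    have h3 := M12V.inc.range.card_mul_index
    rw [hcr, Grp.card12] at h3
    omega
  by_contra hne
  have hd : T.index ∣ 12 := by
    rw [← hir]
    exact Subgroup.index_dvd_of_le hr
  have h12 := Grp.index_twelve (by rw [Grp.card12]; norm_num) hd hne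
  have hcard : Nat.card T = Nat.card M12V.inc.range := by
    have h3 := T.card_mul_index
    rw [h12, Grp.card12] at h3
    omega
  have heq := Subgroup.eq_of_le_of_card_ge hr hcard.le
  have hJ : Tab.J ∈ M12V.inc.range := by
    rw [heq]
    exact memJ
  obtain ⟨g, hg⟩ := hJ
  have h5 : (g : Equiv.Perm GolayPt) (some 0) = some 0 := g.2.2
  have h6 := Tab.iJ (some 0)
  rw [← hg] at h6
  have h7 : ((M12V.inc g : Spor.M12) : Equiv.Perm GolayPt) (some 0) = some 0 := h5
  rw [h7] at h6
  revert h6
  decide +kernel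

theorem fact11 : Fact (Nat.Prime 11) := ⟨by norm_num⟩
attribute [local instance] fact11

theorem res11 : ∀ j : ZMod 11, j ≠ 0 → ∃ i : Fin 11, j = ((3 : ℕ) : ZMod 11) ^ (i : ℕ) ∨
    j = -((3 : ℕ) : ZMod 11) ^ (i : ℕ) := by
  decide

variable {σ : Spor.M12 →* Module.End K V}

theorem isT_pow12 {g : Spor.M12} {P : ℕ} (h : IsT g P) (n : ℕ) : IsT (g ^ n : Spor.M12) ((pcomp P)^[n] pone) := by
  induction n with
  | zero => exact one12
  | succ n ih =>
    rw [pow_succ', Function.iterate_succ_apply']
    exact m12 h ih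

theorem ne12 {g : Spor.M12} {P : ℕ} (hg : IsT g P) (i : ℕ) (hi : i < 24)
    (e : Nat.beq (papp P i) (papp pone i) = false) : g ≠ 1 :=
  fun h => Grp.ne_of_isT hg one12 i hi e (congrArg Subtype.val h)

/-- the involutions `2B` -/
theorem f_a (h2 : (2 : K) ≠ 0) (hV : finrank K V = 11) (hlt : finrank K (Fix σ a) < 11) :
    finrank K (Fix σ a) = 7 := by
  obtain ⟨k, hk⟩ := four_dvd_of (σ := σ) h2 (z := a) (p := p) (q := q) (r := r) (s := s)
    (eq12 (m12 ia ia) one12 (by decide +kernel)) (eq12 (m12 ip ip) one12 (by decide +kernel))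
    (eq12 (m12 ir ir) one12 (by decide +kernel)) (eq12 (m12 ip ia) (m12 ia ip) (by decide +kernel))
    (eq12 (m12 iq ia) (m12 ia iq) (by decide +kernel)) (eq12 (m12 ir ia) (m12 ia ir) (by decide +kernel))
    (eq12 (m12 is ia) (m12 ia is) (by decide +kernel)) (eq12 (m12 ip iq) (m12 ia (m12 iq ip)) (by decide +kernel))
    (eq12 (m12 ir is) (m12 ia (m12 is ir)) (by decide +kernel)) (eq12 (m12 ir ip) (m12 ip ir) (by decide +kernel))
    (eq12 (m12 is ip) (m12 ip is) (by decide +kernel))
  have hA : M12V.inc Tab.A = a := eq12 iA ia (by decide +kernel)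
  have hinc : ∀ g h : Spor.M11, g = h → M12V.inc g = M12V.inc h := fun g h e => by rw [e]
  have r := Tab.rel
  have k1 := klein (σ := σ.comp M12V.inc) h2 r.haa r.hbb r.hab rfl (fix_conj (k := Tab.Y) r.hya)
    (fix_conj (k := Tab.Y * Tab.Y) (by
      rw [mul_assoc, r.hya, ← mul_assoc, r.hyb, mul_assoc]))
  have h3 : H637.JW.Fix (σ.comp M12V.inc) Tab.A = H637.JW.Fix σ a := by
    unfold H637.JW.Fix
    rw [MonoidHom.comp_apply, hA]
  rw [h3, hV] at k1
  omega

/-- **`M₁₂` in dimension `11`, characteristic `3`.** -/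
theorem eleven [IsAlgClosed K] (h3 : (3 : K) = 0) (hI : Irr σ) {B : V →ₗ[K] V →ₗ[K] K} (hB : Form σ B)
    (hV : finrank K V = 11) : False := by
  have s12 := Grp.simple12
  have fact3 : Fact (Nat.Prime 3) := ⟨by norm_num⟩
  have hch : CharP K 3 := Sc.A7.charP_of_zero (by norm_num) (by exact_mod_cast h3)
  have h2 : (2 : K) ≠ 0 := by
    intro h0
    have : (1 : K) = 3 - 2 := by norm_num
    rw [h3, h0, sub_zero] at this
    exact one_ne_zero this
  have h11 : ((11 : ℕ) : K) ≠ 0 := by
    rw [ne_eq, CharP.cast_eq_zero_iff K 3]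
    norm_num
  have hfa := f_a (σ := σ) h2 hV ((hI.fix_lt (ne12 ia 1 (by norm_num) (by decide +kernel))).trans_eq hV)
  have hfy := le_of_char (σ := σ) (p := 3) (c := y) (by
    exact eq12 (isT_pow12 iy 3) one12 (by decide +kernel))
  obtain ⟨m, hm⟩ := eig hB (c := a * y) (y := n5) (r := 11) (k := 3) h11
    (eq12 (isT_pow12 (m12 ia iy) 11) one12 (by decide +kernel))
    (by
      rw [mul_inv_eq_iff_eq_mul]
      exact eq12 (m12 in5 (m12 ia iy)) (m12 (isT_pow12 (m12 ia iy) 3) in5) (by decide +kernel)) res11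
  have hlt := hI.fix_lt (g := a * y) (ne12 (m12 ia iy) 2 (by norm_num) (by decide +kernel))
  have s1 := hI.scott gen
  omega

end Cfsg.Agent.H882.ScM12
end

private theorem dce_3170d1e9627e : _root_.True := by
  try have : _root_.True := by simp only [_root_.Cfsg.Agent.H882.M12V.o8.eq_1]
  exact _root_.True.intro
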